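import Cfsg.Agent.FE6.Data

/-!
Only scalars commute with the letters `1, …, 8`.
-/

set_option autoImplicit false

namespace Cfsg.Agent.FE6
open Cfsg.Agent.Comp

variable {R : Type*} [Ring R] {N : ℕ → R}

theorem comm_ev {y : R} (h : ∀ k, 1 ≤ k → k ≤ 8 → y * N k = N k * y) (w : List ℕ)
    (hw : ∀ x ∈ w, 1 ≤ x ∧ x ≤ 8) : y * ev N w = ev N w * y := by
  induction w with
  | nil => simp
  | cons a w ih =>
    rw [List.forall_mem_cons] at hw
    rw [ev_cons, ← mul_assoc, h a hw.1.1 hw.1.2, mul_assoc, ih hw.2, mul_assoc]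

theorem step {z : R} (h : ∀ k, 1 ≤ k → k ≤ 8 → z * N k = N k * z)
    (hs : ∀ L ∈ ES, (L.map (ev N)).sum = 0) (b b' : ℕ) (g : List ℕ) (m : ℕ)
    (hd : [[b'], [b], g ++ b :: List.replicate m 32] ∈ ES ∧ ∀ x ∈ g, 1 ≤ x ∧ x ≤ 8)
    (hz : z * N b = 0) : z * N b' = 0 := by
  have := congrArg (z * ·) (hs _ hd.1)
  simp only [List.map_cons, List.map_nil, List.sum_cons, List.sum_nil, ev_single, ev_append,
    ev_cons, mul_add, mul_zero, add_zero, hz, zero_add, ← mul_assoc, comm_ev h g hd.2] at this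
  simpa [mul_assoc (ev N g), hz] using this

theorem eq_zero_of {z : R} (h : ∀ k, 1 ≤ k → k ≤ 8 → z * N k = N k * z)
    (hs : ∀ L ∈ ES, (L.map (ev N)).sum = 0) (hz : z * N 33 = 0) : z = 0 := by
  have h1 := step h hs 39 40 [8, 3, 1, 2, 7, 1, 4] 64 (by decide +kernel) <|
    step h hs 38 39 [1, 5, 1, 6, 7] 32 (by decide +kernel) <|
    step h hs 37 38 [6, 5, 8, 6, 3, 8, 8] 16 (by decide +kernel) <|
    step h hs 36 37 [3, 3, 5, 2, 6, 5, 1, 6, 2] 8 (by decide +kernel) <|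
    step h hs 35 36 [4, 7, 5, 1, 6] 4 (by decide +kernel) <|
    step h hs 34 35 [3, 5, 6, 4, 4] 2 (by decide +kernel) <|
    step h hs 33 34 [3, 1, 1, 4, 4] 1 (by decide +kernel) hz
  have := congrArg (z * ·) (hs [[40, 41], []] (by decide +kernel))
  simpa [mul_add, ← mul_assoc, h1] using this

theorem fix33 {y : R} (h : ∀ k, 1 ≤ k → k ≤ 8 → y * N k = N k * y)
    (hs : ∀ L ∈ ES, (L.map (ev N)).sum = 0) :
    y * N 33 = -(N 33 * (N 31 * (N 30 * y * N 33) * N 31)) ∧ N 33 * N 31 = -N 33 := by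
  obtain ⟨u, hu⟩ : ∃ u, u = [5, 6, 1, 8, 4, 1, 3, 2] := ⟨_, rfl⟩
  obtain ⟨v, hv⟩ : ∃ u, u = [8, 4, 7, 2, 4, 1] := ⟨_, rfl⟩
  obtain ⟨w, hw⟩ : ∃ u, u = [4, 7, 5, 3, 7, 3, 2, 3, 8] := ⟨_, rfl⟩
  have h1 := hs [u ++ [33], v ++ [33], w ++ [33]] (by rw [hu, hv, hw]; decide +kernel)
  have h2 := hs [29 :: u, 29 :: v, 29 :: w, [], [33, 30]] (by rw [hu, hv, hw]; decide +kernel)
  have h3 := hs [[33], [33, 31]] (by decide +kernel)
  have c1 := comm_ev h u (by rw [hu]; decide +kernel)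
  have c2 := comm_ev h v (by rw [hv]; decide +kernel)
  have c3 := comm_ev h w (by rw [hw]; decide +kernel)
  simp only [List.map_cons, List.map_nil, List.sum_cons, List.sum_nil, ev_single, ev_append,
    ev_cons, ev_nil, mul_one, add_zero] at h1 h2 h3
  have h4 : N 33 * N 31 = -N 33 := eq_neg_of_add_eq_zero_right h3
  have h5 : (ev N u + ev N v + ev N w) * (y * N 33) = 0 := by
    have := congrArg (y * ·) h1
    simp only [mul_add, ← mul_assoc, c1, c2, c3, mul_zero] at this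
    rw [← this]; noncomm_ring
  have h6 : y * N 33 = -(N 33 * N 30 * (y * N 33)) := by
    have := congrArg (· * (y * N 33)) h2
    simp only [zero_mul] at this
    rw [eq_neg_iff_add_eq_zero, ← this, ← zero_add (y * N 33 + _), ← mul_zero (N 29), ← h5]
    noncomm_ring
  refine ⟨?_, h4⟩
  calc _ = -(-N 33 * N 30 * (y * -N 33)) := by rw [h6]; simp only [mul_neg, neg_mul, neg_neg, ← h6]
    _ = _ := by rw [← h4]; noncomm_ring

theorem scalar {K : Type*} [Field K] (ι : K4 →+* K) (y : Matrix Lie.chevE6.Idx Lie.chevE6.Idx K)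
    (h : ∀ k, 1 ≤ k → k ≤ 8 → y * ι.mapMatrix (Mm k) = ι.mapMatrix (Mm k) * y) :
    ∃ c : K, y = c • 1 := by
  have hs : ∀ L ∈ ES, (L.map (ev fun k => ι.mapMatrix (Mm k))).sum = 0 := fun L hL => by
    have := congrArg ι.mapMatrix (sumM L hL)
    rw [map_list_sum, List.map_map, map_zero] at this
    rw [← this]
    exact congrArg _ (List.map_congr_left fun w _ => (map_ev Mm ι.mapMatrix w).symm)
  obtain ⟨h1, h2⟩ := fix33 h hs
  have h3 : ι.mapMatrix (Mm 31) = Matrix.single (Sum.inl ⟨0, by decide⟩) (Sum.inl ⟨0, by decide⟩) 1 := by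
    rw [mU, RingHom.mapMatrix_apply, Matrix.map_single _ _ _ ι, map_one]
  generalize ι.mapMatrix (Mm 30) * y * ι.mapMatrix (Mm 33) = X at h1
  obtain ⟨c, h4⟩ : ∃ c : K, ι.mapMatrix (Mm 31) * X * ι.mapMatrix (Mm 31) = c • ι.mapMatrix (Mm 31) := by
    rw [h3, Matrix.single_mul_mul_single]
    exact ⟨_, by rw [Matrix.smul_single, one_mul, smul_eq_mul]⟩
  rw [h4, mul_smul_comm, h2, smul_neg, neg_neg] at h1
  refine ⟨_, sub_eq_zero.1 (eq_zero_of (fun k k1 k2 => ?_) hs (by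
    rw [sub_mul, h1, smul_mul_assoc, one_mul, sub_self]))⟩
  rw [sub_mul, mul_sub, h k k1 k2]; simp

end Cfsg.Agent.FE6
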