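import Cfsg.Agent.FE6.Data

set_option autoImplicit false
set_option maxRecDepth 100000

namespace Cfsg.Agent.FE6
open Cfsg.Agent.Comp

theorem m14 : Mm 14 = Lie.chevE6.xMat K4 ⟨36, by decide⟩ 1 := by rw [Mfast]; decide +kernel

theorem m15 : Mm 15 = Lie.chevE6.xMat K4 ⟨56, by decide⟩ w4 := by rw [Mfast]; decide +kernel

theorem m16 : Mm 16 = Lie.chevE6.xMat K4 ⟨36, by decide⟩ (1 + w4) := by rw [Mfast]; decide +kernel

theorem m17 : Mm 17 = Lie.chevE6.xMat K4 ⟨15, by decide⟩ 1 := by rw [Mfast]; decide +kernel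

theorem m18 : Mm 18 = Lie.chevE6.xMat K4 ⟨35, by decide⟩ 1 := by rw [Mfast]; decide +kernel

end Cfsg.Agent.FE6
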