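import Cfsg.Agent.FE6.Data

set_option autoImplicit false
set_option maxRecDepth 100000

namespace Cfsg.Agent.FE6
open Cfsg.Agent.Comp

theorem m19 : Mm 19 = Lie.chevE6.xMat K4 ⟨15, by decide⟩ w4 := by rw [Mfast]; decide +kernel

theorem m20 : Mm 20 = Lie.chevE6.xMat K4 ⟨35, by decide⟩ (1 + w4) := by rw [Mfast]; decide +kernel

theorem m21 : Mm 21 = Lie.chevE6.xMat K4 ⟨42, by decide⟩ 1 := by rw [Mfast]; decide +kernel

theorem m22 : Mm 22 = Lie.chevE6.xMat K4 ⟨37, by decide⟩ 1 := by rw [Mfast]; decide +kernel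

theorem m23 : Mm 23 = Lie.chevE6.xMat K4 ⟨42, by decide⟩ w4 := by rw [Mfast]; decide +kernel

end Cfsg.Agent.FE6
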