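import Cfsg.Agent.FE6.Data

set_option autoImplicit false
set_option maxRecDepth 100000

namespace Cfsg.Agent.FE6
open Cfsg.Agent.Comp

theorem m24 : Mm 24 = Lie.chevE6.xMat K4 ⟨37, by decide⟩ (1 + w4) := by rw [Mfast]; decide +kernel

theorem m25 : Mm 25 = Lie.chevE6.xMat K4 ⟨29, by decide⟩ 1 := by rw [Mfast]; decide +kernel

theorem m26 : Mm 26 = Lie.chevE6.xMat K4 ⟨34, by decide⟩ 1 := by rw [Mfast]; decide +kernel

theorem m27 : Mm 27 = Lie.chevE6.xMat K4 ⟨29, by decide⟩ w4 := by rw [Mfast]; decide +kernel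

theorem m28 : Mm 28 = Lie.chevE6.xMat K4 ⟨34, by decide⟩ (1 + w4) := by rw [Mfast]; decide +kernel

end Cfsg.Agent.FE6
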