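import Cfsg.Agent.S5743
import Cfsg.Prelude.Def_KGroupFacts

/-!
An absolutely irreducible subgroup with outer automorphism group of order two gives three
conjugacy classes of subgroups of the twisted group of type E6 over the field with four elements.
-/

set_option autoImplicit false
open Cfsg

namespace Cfsg.Agent.FE6
open Cfsg.Lie Cfsg.Agent.Chev StSys Matrix Tw S5743

attribute [local instance] good2E6 good2F4

theorem sq_inner {A B : Type*} [Group A] [Group B] (e : A ≃* B) (h : Nat.card (Out B) = 2)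
    (α : MulAut A) : ∃ l : A, ∀ z, α (α z) = l * z * l⁻¹ := by
  have h1 : ((MulAut.congr e α : MulAut B) : Out B) ^ 2 = 1 := h ▸ pow_card_eq_one'
  rw [← QuotientGroup.mk_pow, QuotientGroup.eq_one_iff] at h1
  obtain ⟨l, hl⟩ := h1
  refine ⟨e.symm l, fun z => e.injective ?_⟩
  have := DFunLike.congr_fun hl (e z)
  simp only [pow_two, MulAut.mul_apply, MulAut.conj_apply, MulAut.congr, MulEquiv.coe_mk,
    Equiv.coe_fn_mk, MulEquiv.trans_apply, MulEquiv.symm_apply_apply] at this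
  rw [← this]; simp

theorem three {K : Type*} [Field K] [Fintype K] (hK : Fintype.card K = 4) {B : Type*} [Group B]
    (hB : Nat.card (Out B) = 2) {L : Subgroup (GL chevE6.Idx K)} (h1 : L ≤ twistedE6 K 2)
    (e : L ≃* B) (hc : ∀ y : Matrix chevE6.Idx chevE6.Idx K, (∀ z ∈ L, y * z.1 = z.1 * y) →
      ∃ c : K, y = c • 1) :
    ∃ H : Fin 3 → Subgroup (twistedE6 K 2), (∀ i, Nonempty (H i ≃* B)) ∧
      (∀ i j, i ≠ j → ∀ g : twistedE6 K 2, (H i).map (MulAut.conj g).toMonoidHom ≠ H j) := by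
  haveI : CharP K 2 := charP_of_card_eq_prime_pow (p := 2) (f := 2) hK
  obtain ⟨C⟩ := exists_CE6 (K := K) (q := 2) Nat.prime_two.isPrimePow hK
  obtain ⟨L₀, -, -, hx, hn, -⟩ := exists_L C
  have h3 : ∀ x : Kˣ, x ^ 3 = 1 := fun x => by
    have := pow_card_eq_one' (x := x)
    rwa [Nat.card_units, Nat.card_eq_fintype_card, hK] at this
  obtain ⟨ω, h0, hω⟩ := exists_ne_zero_one (F := K) (by omega)
  lift ω to Kˣ using h0.isUnit
  have ho : orderOf ω = 3 := orderOf_eq_prime (h3 ω) (by rintro rfl; exact hω rfl)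
  let c : Tσ (F := K) symE6 fun _ => 2 := ⟨(![ω, 1, 1, 1, 1, ω ^ 2] : Fin 6 → Kˣ),
    (mem_Tσ_E6 _).mpr (by simp [← pow_mul, show 2 * 2 = 3 + 1 from rfl, pow_succ _ 3, h3])⟩
  refine ⟨fun i => (L.subgroupOf _).map (C.twK.diag (c ^ i.1)).toMonoidHom, fun i =>
    ⟨(Subgroup.equivMapOfInjective _ _ (MulEquiv.injective _)).symm.trans
      ((Subgroup.subgroupOfEquivOfLe h1).trans e)⟩, fun i j hij g hg => ?_⟩
  have hg' := C.isTw.le_grp g.2
  obtain ⟨x, hxe⟩ : ∃ x, x = (dgU (c ^ j.1).1)⁻¹ * g * dgU (c ^ i.1).1 := ⟨_, rfl⟩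
  have hxD : x ∈ GD chevE6 K := hxe ▸
    mul_mem (mul_mem (inv_mem (dgU_mem_GD _)) (mem_GD_of_grp hg')) (dgU_mem_GD _)
  have hxn : x ∈ Subgroup.normalizer (L : Set (GL chevE6.Idx K)) :=
    Subgroup.mem_normalizer_fintype fun z hz => by
      obtain ⟨y, h5, h6⟩ := hg.le ⟨_, ⟨⟨z, h1 hz⟩, hz, rfl⟩, rfl⟩
      have h7 : dgU (c ^ j.1).1 * y.1 * (dgU (c ^ j.1).1)⁻¹ =
        g.1 * (dgU (c ^ i.1).1 * z * (dgU (c ^ i.1).1)⁻¹) * g.1⁻¹ := congrArg Subtype.val h6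
      have h8 : y.1 ∈ L := h5
      rw [hxe, aux1 h7]
      exact h8
  obtain ⟨l, hl⟩ := sq_inner e hB (L.normalizerMonoidHom ⟨x, hxn⟩)
  have h4 : ∀ z ∈ L, (l.1⁻¹ * (x * x)) * z = z * (l.1⁻¹ * (x * x)) := fun z hz => by
    have : x * (x * z * x⁻¹) * x⁻¹ = l.1 * z * l.1⁻¹ := congrArg Subtype.val (hl ⟨z, hz⟩)
    calc _ = l.1⁻¹ * (x * (x * z * x⁻¹) * x⁻¹) * (x * x) := by group
      _ = _ := by rw [this]; group
  obtain ⟨a, ha⟩ := hc (l.1⁻¹ * (x * x) : GL _ K).1 fun z hz => congrArg Units.val (h4 z hz)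
  have hl' := C.isTw.le_grp (h1 l.2)
  have h5 : l.1⁻¹ * (x * x) = 1 := eq_one_of_cent hx hn
    (mul_mem (inv_mem (mem_GD_of_grp hl')) (mul_mem hxD hxD)) fun z _ => by
      rw [mul_inv_eq_iff_eq_mul]
      exact Units.ext (by rw [Units.val_mul, Units.val_mul z, ha]; simp)
  obtain ⟨d, hd⟩ : ∃ d, d = (c ^ j.1).1⁻¹ * (c ^ i.1).1 := ⟨_, rfl⟩
  have h6 : dgU d ∈ (glSys chevE6 K).grp := by
    have e1 : x = ((dgU (c ^ j.1).1⁻¹) * g * (dgU (c ^ j.1).1⁻¹)⁻¹) * dgU d := by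
      simp only [hxe, hd, ← dgH_apply, map_mul, map_inv]; group
    have e2 := dgU_conj_mem (c ^ j.1).1⁻¹ hg'
    generalize (dgU (c ^ j.1).1⁻¹) * g * (dgU (c ^ j.1).1⁻¹)⁻¹ = b at e1 e2
    have e3 : dgU d * dgU d ∈ (glSys chevE6 K).grp := by
      have := mul_mem (inv_mem (mul_mem e2 (dgU_conj_mem d e2))) hl'
      rwa [show (b * (dgU d * b * (dgU d)⁻¹))⁻¹ * l.1 = dgU d * dgU d by
        rw [inv_mul_eq_one.1 h5, e1]; group] at this
    have e4 : d * d * (d * d) = d := funext fun k => by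
      change d k * d k * (d k * d k) = d k
      rw [show d k * d k * (d k * d k) = d k ^ 3 * d k by simp only [pow_succ, pow_zero, one_mul, mul_assoc],
        h3, one_mul]
    rw [← e4, dgU_mul, dgU_mul]
    exact mul_mem e3 e3
  obtain ⟨a, ha⟩ := exists_pw_of_mem h6
  have h7 := lam h3 a
  rw [← ha, hd] at h7
  have h8 : (ω ^ j.1)⁻¹ * ω ^ i.1 * ((1 ^ j.1)⁻¹ * 1 ^ i.1) =
    (1 ^ j.1)⁻¹ * 1 ^ i.1 * (((ω ^ 2) ^ j.1)⁻¹ * (ω ^ 2) ^ i.1) := h7
  have h9 : ω ^ i.1 = ω ^ j.1 := by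
    simp only [one_pow, inv_one, mul_one, one_mul, pow_two, mul_pow] at h8
    rw [mul_inv, mul_mul_mul_comm, left_eq_mul, inv_mul_eq_one] at h8
    exact h8.symm
  rw [pow_inj_mod, ho, Nat.mod_eq_of_lt i.2, Nat.mod_eq_of_lt j.2] at h9
  exact hij (Fin.ext h9)

end Cfsg.Agent.FE6
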