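import Cfsg.Agent.FE6.Root1
import Cfsg.Agent.FE6.Root2
import Cfsg.Agent.FE6.Root3
import Cfsg.Agent.FE6.Root4
import Cfsg.Agent.FE6.Irr
import Cfsg.Agent.FE6.Three
import Cfsg.Agent.Comp.ChevKit
import Cfsg.Agent.Comp.Fi22.Main

/-!
Fi22 in the twisted group of type E6 over the field with four elements.
-/

set_option autoImplicit false

namespace Cfsg.Agent.FE6
open Cfsg.Agent.Comp Cfsg.Lie

variable {K : Type*} [Field K]

theorem mem_one (ι : K4 →+* K) {x r : ℕ} {h : r < chevE6.nroots}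
    (e : Mm x = chevE6.xMat K4 ⟨r, h⟩ 1) (hr : r ∈ [e6p2, e6m2, e6p4, e6m4]) (g : GL chevE6.Idx K)
    (hg : g = ι.mapMatrix (ev Mm [x])) : g ∈ twistedE6 K 2 :=
  Subgroup.subset_closure ⟨[(r, 1)], Or.inl ⟨1, one_pow 2, r, hr, rfl⟩, by
    rw [hg, ev_single, e, xMat_map, map_one]
    simp [ChevalleyDatum.wordMat, ChevalleyDatum.x, h]⟩

theorem mem_two (ι : K4 →+* K) {x y r s : ℕ} {h : r < chevE6.nroots} {h' : s < chevE6.nroots}
    {t u : K4} (e : Mm x = chevE6.xMat K4 ⟨r, h⟩ t) (e' : Mm y = chevE6.xMat K4 ⟨s, h'⟩ u)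
    (hr : (r, s) ∈ [(e6p1, e6p6), (e6m1, e6m6), (e6p3, e6p5), (e6m3, e6m5)] ∧ u = t ^ 2)
    (g : GL chevE6.Idx K) (hg : g = ι.mapMatrix (ev Mm [x, y])) : g ∈ twistedE6 K 2 :=
  Subgroup.subset_closure ⟨[(r, ι t), (s, ι t ^ 2)], Or.inr ⟨ι t, (r, s), hr.1, rfl⟩, by
    rw [hg, ev_cons, ev_single, e, e', map_mul, xMat_map, xMat_map, hr.2, map_pow]
    simp [ChevalleyDatum.wordMat, ChevalleyDatum.x, h, h']⟩

theorem hX (ι : K4 →+* K) : ∀ w ∈ X, ∀ g : GL chevE6.Idx K, g = ι.mapMatrix (ev Mm w) →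
    g ∈ twistedE6 K 2 := by
  simp only [X, List.forall_mem_cons]
  exact ⟨mem_one ι m9 (by decide), mem_one ι m10 (by decide), mem_one ι m11 (by decide),
    mem_one ι m12 (by decide), mem_two ι m13 m14 (by decide +kernel),
    mem_two ι m15 m16 (by decide +kernel), mem_two ι m17 m18 (by decide +kernel),
    mem_two ι m19 m20 (by decide +kernel), mem_two ι m21 m22 (by decide +kernel),
    mem_two ι m23 m24 (by decide +kernel), mem_two ι m25 m26 (by decide +kernel),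
    mem_two ι m27 m28 (by decide +kernel), by simp⟩

/-- the generators as products of the words `X` -/
def EW : List (List ℕ) :=
  [[10, 8, 6, 3, 10, 4, 2, 8, 3, 2], [11, 7, 10, 8, 1, 3, 10, 3, 1], [1], [], [2, 9, 2, 1],
   [2, 8, 6, 3, 10, 2, 3, 0, 1], [3, 11, 5, 9, 4, 2, 8, 3, 2], [4, 2, 8, 2, 1],
   [4, 2, 8, 6, 3, 10, 2, 3, 0, 1]]

theorem ev_flat {G : Type*} [Group G] {s : ℕ → G} {H : Subgroup G} {l : List (List ℕ)}
    (h : ∀ w ∈ l, ev s w ∈ H) : ev s l.flatten ∈ H := by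
  induction l with
  | nil => exact H.one_mem
  | cons w l ih =>
    rw [List.forall_mem_cons] at h
    rw [List.flatten_cons, ev_append]
    exact H.mul_mem h.1 (ih h.2)

theorem exists_hom (ι : K4 →+* K) : ∃ φ : Spor.Fi22 →* GL chevE6.Idx K, Function.Injective φ ∧
    φ.range ≤ twistedE6 K 2 ∧ ∀ x < 9, (φ (Fi22.s x)).1 = ι.mapMatrix (Mm x) := by
  have hR : ∀ w ∈ Fi22.R, ∀ x ∈ w, x < 9 := by decide +kernel
  have u := isUnit_of_sat ((satM.appendM satU).mapM ι.mapMatrix.toMonoidHom) (L := 29)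
    (by decide +kernel)
  have h1 := eqs_glS u (E := EM) (by decide +kernel) (eqs_mapM eqsM ι.mapMatrix.toMonoidHom)
  obtain ⟨φ, e1, e2⟩ := Fi22.pres.lift hR _
    (sat_glS u (fun w hw x hx => (hR w hw x hx).trans (by norm_num)) (satM.mapM _))
  have e3 : ∀ x < 9, (φ (Fi22.s x)).1 = ι.mapMatrix (Mm x) := fun x hx => by
    rw [e1 x hx]; exact glS_val (u x (by omega))
  refine ⟨φ, ?_, e2 ▸ gen_le.2 fun x hx => ?_, e3⟩
  · have := Fi22.simple
    rw [← MonoidHom.ker_eq_bot_iff]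
    refine (inferInstance : φ.ker.Normal).eq_bot_or_eq_top.resolve_right fun h => m0 ?_
    have h2 : φ (Fi22.s 1) = 1 := (show _ ∈ φ.ker by rw [h]; trivial)
    have h3 := e3 1 (by norm_num)
    rw [h2] at h3
    exact Matrix.map_injective ι.injective (h3.symm.trans (map_one ι.mapMatrix).symm)
  · have hd : ∀ x < 9, ([x], (((EW.getD x []) ++ 0 :: (EW.getD x []).reverse).map
        (X.getD · [])).flatten) ∈ EM ∧ ∀ w ∈ ((EW.getD x []) ++ 0 :: (EW.getD x []).reverse).map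
        (X.getD · []), w ∈ X ∧ ∀ y ∈ w, y < 29 := by decide +kernel
    rw [← ev_single (glS _), h1 _ (hd x hx).1]
    exact ev_flat fun w hw => hX ι w ((hd x hx).2 w hw).1 _ (by
      rw [ev_glS u ((hd x hx).2 w hw).2, ← map_ev]; rfl)

theorem main [Fintype K] (hK : Fintype.card K = 4) {B : Type*} [Group B]
    (hB : Nat.card (Out B) = 2) {P : Subgroup Spor.Fi22} (hP : ∀ k, 1 ≤ k → k ≤ 8 → Fi22.s k ∈ P)
    (e : P ≃* B) : ∃ H : Fin 3 → Subgroup (twistedE6 K 2), (∀ i, Nonempty (H i ≃* B)) ∧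
      (∀ i j, i ≠ j → ∀ g : twistedE6 K 2, (H i).map (MulAut.conj g).toMonoidHom ≠ H j) := by
  obtain ⟨ι⟩ := exists_k4hom K hK
  obtain ⟨φ, h1, h2, h3⟩ := exists_hom ι
  refine three hK hB (L := P.map φ) ((Subgroup.map_le_range _ _).trans h2)
    ((Subgroup.equivMapOfInjective _ _ h1).symm.trans e) fun y hy => scalar ι y fun k k1 k2 => ?_
  rw [← h3 k (by omega)]
  exact hy _ ⟨_, hP k k1 k2, rfl⟩

end Cfsg.Agent.FE6
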