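import Cfsg.Agent.FE6.Data

set_option autoImplicit false
set_option maxRecDepth 100000

namespace Cfsg.Agent.FE6
open Cfsg.Agent.Comp

theorem m9 : Mm 9 = Lie.chevE6.xMat K4 ⟨46, by decide⟩ 1 := by rw [Mfast]; decide +kernel

theorem m10 : Mm 10 = Lie.chevE6.xMat K4 ⟨25, by decide⟩ 1 := by rw [Mfast]; decide +kernel

theorem m11 : Mm 11 = Lie.chevE6.xMat K4 ⟨39, by decide⟩ 1 := by rw [Mfast]; decide +kernel

theorem m12 : Mm 12 = Lie.chevE6.xMat K4 ⟨32, by decide⟩ 1 := by rw [Mfast]; decide +kernel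

theorem m13 : Mm 13 = Lie.chevE6.xMat K4 ⟨56, by decide⟩ 1 := by rw [Mfast]; decide +kernel

end Cfsg.Agent.FE6
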